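import Cfsg.Agent.H378.RC.Tab7
import Cfsg.Agent.H550.RG.CntD
import Cfsg.Agent.H931.KC.PPCard
import Cfsg.Agent.H931.KC.Theta
import Cfsg.Agent.H76.RG.Sx

/-!
# The elements of prime order in `E7(q)`: Kac coordinates and highest roots (S3509, helper378)

* `exists_data` : Kac coordinates adapted to `θ`, `S = Sx f.t` in terms of them;
* `top_of_conn` : a connected level of the table gives a maximal root fixed by `θ`;
* `card_le` : the coarse bound.
-/

set_option autoImplicit false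
set_option linter.unusedSectionVars false

namespace Cfsg.Agent.H378.RC

open CoxeterSystem Cfsg Cfsg.Lie Cfsg.Lie.ChevalleyDatum
open Cfsg.Agent.ChevalleyStructure Cfsg.Agent.ChevalleyStructure.Elts Cfsg.Agent.ChevalleyStructure.CoxeterGeom
  Cfsg.Agent.ChevalleyStructure.CoxeterGeomTypes Cfsg.Agent.ChevalleyStructure.NPerm
open Cfsg.Agent.Tits.Roots Cfsg.Agent.Tits.Core Cfsg.Agent.Nodes Cfsg.Agent.Nodes.Reps Cfsg.Agent.Nodes.BNOf
  Cfsg.Agent.Nodes.RGDChev Cfsg.Agent.Nodes.Bruhat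
open Cfsg.Agent.KFacts.RgdField Cfsg.Agent.KFacts.RgdChevCoord
open Cfsg.Agent.BpExc.TorCent Cfsg.Agent.BpExc.Pair Cfsg.Agent.BpExc.TorChev
open Cfsg.Agent.H129.TorusChar Cfsg.Agent.H129.WData
open Cfsg.Agent.Nodes.Coroot
open Cfsg.Agent.H469.Exc Cfsg.Agent.H316.U6 Cfsg.Agent.H169.RG Cfsg.Agent.H550.RG
open Cfsg.Agent.H931.KC Cfsg.Agent.H76.RG Cfsg.Agent.H164.RG

universe v

section gen

variable {D : ChevalleyDatum} {l : ℕ} {M : CoxeterMatrix (Fin l)} {hp : IsType D l M} {r q : ℕ} [hr : Fact r.Prime]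
  {K₀ : Type v} [Group K₀] {m : MData hp r q K₀} {s : ↥(D.group (KK r))}

/-- the data from the Kac coordinates -/
structure Data (f : TorForm m s) (n : ℕ) (w : M.Group) (c : Fin l → ℕ) (c0 : ℕ) : Prop where
  kac : Kac D l n c c0
  sj : ∀ a, rep M.toCoxeterSystem hp.isCartan w a ∈ Sx M.toCoxeterSystem hp.isCartan (ch hp) f.t ∧
    0 ≤ rep M.toCoxeterSystem hp.isCartan w a ↔ SJ hp n c a
  iss : IsS hp n c {a | rep M.toCoxeterSystem hp.isCartan w a ∈ Sx M.toCoxeterSystem hp.isCartan (ch hp) f.t}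
  perm : ∃ π : Equiv.Perm {j : Option (Fin l) // ct c c0 j = 0}, ∀ j,
    f.θ (rep M.toCoxeterSystem hp.isCartan w (al D l j.1)) = rep M.toCoxeterSystem hp.isCartan w (al D l (π j).1)

theorem exists_data (f : TorForm m s) {n : ℕ} (hn : n.Prime) (hnr : n ≠ r) (hsn : s ^ n = 1) :
    ∃ w c c0, Data f n w c c0 := by
  have hfin : Finite M.Group := finite_W hp M.toCoxeterSystem
  have hnk : (n : KK r) ≠ 0 := by
    intro h
    rw [CharP.cast_eq_zero_iff (KK r) r] at h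
    exact hnr ((Nat.prime_dvd_prime_iff_eq hr.out hn).1 h).symm
  have : NeZero (n : KK r) := ⟨hnk⟩
  obtain ⟨ζ, hζ⟩ := HasEnoughRootsOfUnity.exists_primitiveRoot (KK r) n
  obtain ⟨w, c, c0, K, h1, h2, h3⟩ := exists_kac_theta hp hn.pos hζ f.mem (f.pow_eq_one hsn) f.stab f.pos
  refine ⟨w, c, c0, K, h2, fun a => ?_, h3⟩
  have h4 : ∀ a, (∑ i, a i * (c i : ℤ)) = bb c a := fun a => rfl
  rw [h4]
  constructor
  · intro ha
    have h5 : IsRoot M.toCoxeterSystem hp.isCartan a := (isRoot_rep_iff w).1 ha.1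
    refine ⟨h5, ?_⟩
    rw [← hζ.zpow_eq_one_iff_dvd, ← h1, cX_root hp M.toCoxeterSystem f.mem (h5.act w)]
    exact ha.2
  · rintro ⟨h5, h6⟩
    rw [← hζ.zpow_eq_one_iff_dvd, ← h1, cX_root hp M.toCoxeterSystem f.mem (h5.act w)] at h6
    exact ⟨h5.act w, h6⟩

theorem tset (f : TorForm m s) : TSet M.toCoxeterSystem hp.isCartan (Sx M.toCoxeterSystem hp.isCartan (ch hp) f.t) f.θ where
  root := f.fr.root
  mem := f.stab
  pos := f.pos

theorem Data.rset {f : TorForm m s} {n : ℕ} {w : M.Group} {c : Fin l → ℕ} {c0 : ℕ} (h : Data f n w c c0) :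
    RSet M.toCoxeterSystem hp.isCartan (Sx M.toCoxeterSystem hp.isCartan (ch hp) f.t) := by
  have hfin : Finite M.Group := finite_W hp M.toCoxeterSystem
  have h1 := (h.iss.rset hp).pull w⁻¹
  have e : {a : Fin l → ℤ | rep M.toCoxeterSystem hp.isCartan w⁻¹ a ∈
      {a : Fin l → ℤ | rep M.toCoxeterSystem hp.isCartan w a ∈ Sx M.toCoxeterSystem hp.isCartan (ch hp) f.t}} =
      Sx M.toCoxeterSystem hp.isCartan (ch hp) f.t := by
    refine Set.ext fun a => ?_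
    have h2 : rep M.toCoxeterSystem hp.isCartan w (rep M.toCoxeterSystem hp.isCartan w⁻¹ a) ∈
      Sx M.toCoxeterSystem hp.isCartan (ch hp) f.t ↔ a ∈ Sx M.toCoxeterSystem hp.isCartan (ch hp) f.t := by
      rw [rep_apply_inv]
    exact h2
  rw [e] at h1
  exact h1

theorem tset_PP [Finite M.Group] (f : TorForm m s) {v : M.Group} (hv : v ∈ PP M.toCoxeterSystem hp.isCartan (ch hp) f.t) :
    TSet M.toCoxeterSystem hp.isCartan (Sx M.toCoxeterSystem hp.isCartan (ch hp) f.t)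
      (Cfsg.Agent.BpExc.Fr.repAut M.toCoxeterSystem hp.isCartan v) where
  root a := isRoot_rep_iff v
  mem a := by
    constructor
    · rintro ⟨h1, h2⟩
      have h3 : IsRoot M.toCoxeterSystem hp.isCartan a := (isRoot_rep_iff v).1 h1
      exact ⟨h3, by rw [← hv.1 a h3]; exact h2⟩
    · rintro ⟨h1, h2⟩
      exact ⟨h1.act v, by rw [← h2]; exact hv.1 a h1⟩
  pos a ha h0 := hv.2 a ha h0

/-- **A maximal root fixed by all automorphisms.** -/
theorem top_all {I W : Type*} [Fintype I] [DecidableEq I] [Group W] [Finite W] {N : CoxeterMatrix I}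
    {cs : CoxeterSystem N W} {A : I → I → ℤ} {h : IsCartan N A} {S : Set (I → ℤ)}
    (hs : Cfsg.Agent.KFacts.RgdSL.SL cs h) (hS : RSet cs h S) {t : ℕ} (hne : ∃ a ∈ S, t ≤ nb cs h S a)
    (hconn : ∀ a ∈ S, ∀ b ∈ S, t ≤ nb cs h S a → t ≤ nb cs h S b →
      Relation.ReflTransGen (fun x y => y ∈ S ∧ cpr cs h y x ≠ 0) a b) :
    ∃ β ∈ S, 0 ≤ β ∧ t ≤ nb cs h S β ∧ (∀ a ∈ S, 0 ≤ a → ¬ IsRoot cs h (β + a)) ∧
      ∀ θ : (I → ℤ) ≃+ (I → ℤ), TSet cs h S θ → θ β = β := by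
  have h1 : TSet cs h S (AddEquiv.refl _) := ⟨fun _ => Iff.rfl, fun _ => Iff.rfl, fun _ _ h0 => h0⟩
  obtain ⟨β, hβ, h0, -, hj, htop⟩ := high_nb hs hS h1 t hne hconn
  refine ⟨β, hβ, h0, hj, htop, fun θ hθ => ?_⟩
  obtain ⟨β', hβ', h0', hfix, hj', htop'⟩ := high_nb hs hS hθ t hne hconn
  have e : β = β' := Top.eq hS (Ψ := S) (fun _ h => h) ⟨hβ, h0, htop⟩ ⟨hβ', h0', htop'⟩ hβ (hconn β hβ β' hβ' hj hj')
  rw [e]
  exact hfix

/-- **A maximal root fixed by `θ`.** -/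
theorem Data.top {f : TorForm m s} {n : ℕ} {w : M.Group} {c : Fin l → ℕ} {c0 : ℕ} (h : Data f n w c c0) [Finite M.Group]
    (hs : Cfsg.Agent.KFacts.RgdSL.SL M.toCoxeterSystem hp.isCartan) {S' : Set (Fin l → ℤ)}
    (hS' : S' = {a | rep M.toCoxeterSystem hp.isCartan w a ∈ Sx M.toCoxeterSystem hp.isCartan (ch hp) f.t}) {t : ℕ}
    (hne : ∃ a ∈ S', t ≤ nb M.toCoxeterSystem hp.isCartan S' a)
    (hconn : ∀ a ∈ S', ∀ b ∈ S', t ≤ nb M.toCoxeterSystem hp.isCartan S' a → t ≤ nb M.toCoxeterSystem hp.isCartan S' b →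
      Relation.ReflTransGen (fun x y => y ∈ S' ∧ cpr M.toCoxeterSystem hp.isCartan y x ≠ 0) a b) :
    ∃ β ∈ Sx M.toCoxeterSystem hp.isCartan (ch hp) f.t, 0 ≤ β ∧ f.θ β = β ∧
      t ≤ nb M.toCoxeterSystem hp.isCartan (Sx M.toCoxeterSystem hp.isCartan (ch hp) f.t) β ∧
      (∀ a ∈ Sx M.toCoxeterSystem hp.isCartan (ch hp) f.t, 0 ≤ a → ¬ IsRoot M.toCoxeterSystem hp.isCartan (β + a)) ∧
      ∀ v ∈ PP M.toCoxeterSystem hp.isCartan (ch hp) f.t, rep M.toCoxeterSystem hp.isCartan v β = β := by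
  subst hS'
  have hne' : ∃ a ∈ Sx M.toCoxeterSystem hp.isCartan (ch hp) f.t,
      t ≤ nb M.toCoxeterSystem hp.isCartan (Sx M.toCoxeterSystem hp.isCartan (ch hp) f.t) a := by
    obtain ⟨a, ha, hta⟩ := hne
    exact ⟨_, ha, by rw [nb_pull]; exact hta⟩
  have hconn' : ∀ a ∈ Sx M.toCoxeterSystem hp.isCartan (ch hp) f.t,
      ∀ b ∈ Sx M.toCoxeterSystem hp.isCartan (ch hp) f.t,
      t ≤ nb M.toCoxeterSystem hp.isCartan (Sx M.toCoxeterSystem hp.isCartan (ch hp) f.t) a →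
      t ≤ nb M.toCoxeterSystem hp.isCartan (Sx M.toCoxeterSystem hp.isCartan (ch hp) f.t) b →
      Relation.ReflTransGen (fun x y => y ∈ Sx M.toCoxeterSystem hp.isCartan (ch hp) f.t ∧
        cpr M.toCoxeterSystem hp.isCartan y x ≠ 0) a b := by
    intro a ha b hb hta htb
    obtain ⟨a', rfl⟩ := (rep_bij (cs := M.toCoxeterSystem) (h := hp.isCartan) w).2 a
    obtain ⟨b', rfl⟩ := (rep_bij (cs := M.toCoxeterSystem) (h := hp.isCartan) w).2 b
    have ha' : rep M.toCoxeterSystem hp.isCartan w a' ∈ Sx M.toCoxeterSystem hp.isCartan (ch hp) f.t := ha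
    have h1 := hconn a' ha b' hb (by rw [← nb_pull]; exact hta) (by rw [← nb_pull]; exact htb)
    have h2 : Cn M.toCoxeterSystem hp.isCartan
        {a | rep M.toCoxeterSystem hp.isCartan w a ∈ Sx M.toCoxeterSystem hp.isCartan (ch hp) f.t} a' b' := by
      clear htb hb
      induction h1 with
      | refl => exact Relation.ReflTransGen.refl
      | @tail x y hx hxy ih =>
        have h3 : x ∈ {a | rep M.toCoxeterSystem hp.isCartan w a ∈
            Sx M.toCoxeterSystem hp.isCartan (ch hp) f.t} := Cn.mem ha' ih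
        exact ih.tail ⟨h3, hxy.1, hxy.2⟩
    exact (h2.push h.rset).chain
  obtain ⟨β, h1, h2, h3, h4, h5⟩ := top_all hs h.rset hne' hconn'
  exact ⟨β, h1, h2, h5 _ (tset f), h3, h4, fun v hv => h5 _ (tset_PP f hv)⟩

/-- the number of the roots -/
theorem Data.ncard {f : TorForm m s} {n : ℕ} {w : M.Group} {c : Fin l → ℕ} {c0 : ℕ} (_h : Data f n w c c0) :
    (Sx M.toCoxeterSystem hp.isCartan (ch hp) f.t).ncard =
      {a | rep M.toCoxeterSystem hp.isCartan w a ∈ Sx M.toCoxeterSystem hp.isCartan (ch hp) f.t}.ncard := by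
  have hfin : Finite M.Group := finite_W hp M.toCoxeterSystem
  exact ncard_pull w

theorem fixC_eq (m : MData hp r q K₀) (s : ↥(D.group (KK r))) :
    fixedSubgroup m.σ ⊓ Subgroup.centralizer {s} = fixC m.σ s := by
  ext c
  rw [Subgroup.mem_inf, Subgroup.mem_centralizer_singleton_iff]
  exact Iff.rfl

/-- **The coarse bound.** -/
theorem card_le [Finite M.Group] (f : TorForm m s) {k : ℕ} (hPP : nmk D l ≤ k) {n : ℕ} (hn : n.Prime) (hnr : n ≠ r) (hsn : s ^ n = 1)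
    {N : ℕ} (hN : (Sx M.toCoxeterSystem hp.isCartan (ch hp) f.t).ncard ≤ 2 * N) :
    Nat.card ↥(PP M.toCoxeterSystem hp.isCartan (ch hp) f.t) ≤ k ∧
    Nat.card ↥(fixedSubgroup m.σ ⊓ Subgroup.centralizer {s}) ≤ k * ((q + 1) ^ (l + N) * q ^ N) := by
  have h1 := tor_le_PP' f
  have h2 := tor_ncard f
  have hnk : (n : KK r) ≠ 0 := by
    intro h
    rw [CharP.cast_eq_zero_iff (KK r) r] at h
    exact hnr ((Nat.prime_dvd_prime_iff_eq hr.out hn).1 h).symm
  have h3 := H931.KC.card_PP_le hp hnk f.mem (f.pow_eq_one hsn)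
  rw [H931.KC.card_mk] at h3
  have hN' : (H28.RG.SP M.toCoxeterSystem hp.isCartan (ch hp) f.t).ncard ≤ N := by omega
  have hq : 0 < q := by
    rw [← m.hq]
    exact pow_pos hr.out.pos _
  refine ⟨h3.trans hPP, ?_⟩
  rw [fixC_eq]
  calc Nat.card ↥(fixC m.σ s) ≤ _ := h1
    _ ≤ k * ((q + 1) ^ (l + N) * q ^ N) := by
        refine Nat.mul_le_mul (h3.trans hPP) (Nat.mul_le_mul ?_ ?_)
        · exact Nat.pow_le_pow_right (by omega) (by omega)
        · exact Nat.pow_le_pow_right hq hN'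

end gen

end Cfsg.Agent.H378.RC
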