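import Cfsg.Agent.H164.RG.TabE7

/-!
# The centralisers of the elements of prime order in `E7` (S3509, helper378)

`prime_mask` : the Kac coordinates of prime degree; `tab_prime` : one of the sets `{a ∈ S | t ≤ nb a}`, `t = 2, 4, 6`, is
nonempty and connected, or `S.ncard ≤ 14`.
-/

set_option autoImplicit false
set_option maxRecDepth 100000

namespace Cfsg.Agent.H378.RC

open CoxeterSystem Cfsg Cfsg.Lie Cfsg.Lie.ChevalleyDatum
open Cfsg.Agent.ChevalleyStructure Cfsg.Agent.ChevalleyStructure.Elts Cfsg.Agent.ChevalleyStructure.CoxeterGeom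
  Cfsg.Agent.ChevalleyStructure.CoxeterGeomTypes Cfsg.Agent.ChevalleyStructure.NPerm
open Cfsg.Agent.Tits.Roots Cfsg.Agent.Tits.Core Cfsg.Agent.Nodes Cfsg.Agent.Nodes.Reps Cfsg.Agent.Nodes.BNOf
  Cfsg.Agent.Nodes.RGDChev Cfsg.Agent.Nodes.Bruhat
open Cfsg.Agent.H129.TorusChar Cfsg.Agent.H129.WData
open Cfsg.Agent.Nodes.Coroot
open Cfsg.Agent.H931.KC Cfsg.Agent.H76.RG Cfsg.Agent.H164.RG

/-- masks which do not occur for a prime degree, first kind -/
def F7a (m : ℕ) : Bool :=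
  m.testBit 2 && m.testBit 4 && m.testBit 6 && m.testBit 7 &&
    !(m.testBit 3 && ((m.testBit 0 && m.testBit 1) || (m.testBit 0 && m.testBit 5) || (m.testBit 1 && m.testBit 5)))

/-- masks which do not occur for a prime degree, second kind -/
def F7b (m : ℕ) : Bool :=
  m.testBit 0 && m.testBit 1 && m.testBit 3 && m.testBit 5 && m.testBit 6 && m.testBit 7 && !m.testBit 2 && !m.testBit 4

theorem hr7 : ∀ i : Fin 7, hr chevE7 7 i = ([2, 2, 3, 4, 3, 2, 1] : List ℤ).getD i 0 := by decide +kernel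

theorem kac_sum {n : ℕ} {c : Fin 7 → ℕ} {c0 : ℕ} (hk : Kac chevE7 7 n c c0) :
    n = c0 + (2 * c 0 + 2 * c 1 + 3 * c 2 + 4 * c 3 + 3 * c 4 + 2 * c 5 + c 6) := by
  have h := hk.sum
  simp only [hr7, Fin.sum_univ_seven] at h
  simp only [List.getD_eq_getElem?_getD, Fin.val_zero, Fin.val_one, Fin.isValue] at h
  norm_num at h
  change (c0 : ℤ) + (2 * c 0 + 2 * c 1 + 3 * c 2 + 4 * c 3 + 3 * c 4 + 2 * c 5 + c 6) = n at h
  omega

variable {n : ℕ} {c : Fin 7 → ℕ} {c0 : ℕ}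

theorem tb (i : Fin 7) : (mc 7 c c0).testBit i = decide (c i = 0) := by
  rw [Bool.eq_iff_iff, mc_lt, decide_eq_true_eq]

theorem tb7 : (mc 7 c c0).testBit 7 = decide (c0 = 0) := by
  rw [Bool.eq_iff_iff, mc_eq, decide_eq_true_eq]

theorem prime_a (hk : Kac chevE7 7 n c c0) (hn : n.Prime) : F7a (mc 7 c c0) = false := by
  have h := kac_sum hk
  rw [Bool.eq_false_iff]
  intro hF
  have e0 := tb (c := c) (c0 := c0) 0
  have e1 := tb (c := c) (c0 := c0) 1
  have e2 := tb (c := c) (c0 := c0) 2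
  have e3 := tb (c := c) (c0 := c0) 3
  have e4 := tb (c := c) (c0 := c0) 4
  have e5 := tb (c := c) (c0 := c0) 5
  have e6 := tb (c := c) (c0 := c0) 6
  have e7 := tb7 (c := c) (c0 := c0)
  simp only [F7a, Bool.and_eq_true, Bool.not_eq_true', Bool.and_eq_false_iff, Bool.or_eq_false_iff] at hF
  simp only [Fin.isValue, Fin.val_zero, Fin.val_one, Fin.coe_ofNat_eq_mod, Nat.reduceMod] at e0 e1 e2 e3 e4 e5 e6 e7
  simp only [e0, e1, e2, e3, e4, e5, e6, e7, decide_eq_true_eq, decide_eq_false_iff_not] at hF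
  obtain ⟨⟨⟨⟨h2, h4⟩, h6⟩, h7⟩, h8⟩ := hF
  have hd : n = 2 * (c 0 + c 1 + 2 * c 3 + c 5) := by omega
  have h2n : n = 2 := by
    have h9 : 2 ∣ n := ⟨_, hd⟩
    exact ((Nat.prime_dvd_prime_iff_eq Nat.prime_two hn).1 h9).symm
  omega

theorem prime_b (hk : Kac chevE7 7 n c c0) (hn : n.Prime) : F7b (mc 7 c c0) = false := by
  have h := kac_sum hk
  rw [Bool.eq_false_iff]
  intro hF
  have e0 := tb (c := c) (c0 := c0) 0
  have e1 := tb (c := c) (c0 := c0) 1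
  have e2 := tb (c := c) (c0 := c0) 2
  have e3 := tb (c := c) (c0 := c0) 3
  have e4 := tb (c := c) (c0 := c0) 4
  have e5 := tb (c := c) (c0 := c0) 5
  have e6 := tb (c := c) (c0 := c0) 6
  have e7 := tb7 (c := c) (c0 := c0)
  simp only [F7b, Bool.and_eq_true, Bool.not_eq_true'] at hF
  simp only [Fin.isValue, Fin.val_zero, Fin.val_one, Fin.coe_ofNat_eq_mod, Nat.reduceMod] at e0 e1 e2 e3 e4 e5 e6 e7
  simp only [e0, e1, e2, e3, e4, e5, e6, e7, decide_eq_true_eq, decide_eq_false_iff_not] at hF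
  obtain ⟨⟨⟨⟨⟨⟨⟨h0, h1⟩, h3⟩, h5⟩, h6⟩, h7⟩, h2⟩, h4⟩ := hF
  have hd : n = 3 * (c 2 + c 4) := by omega
  have h2n : n = 3 := by
    have h9 : 3 ∣ n := ⟨_, hd⟩
    exact ((Nat.prime_dvd_prime_iff_eq Nat.prime_three hn).1 h9).symm
  omega

theorem chk_prime : allm (fun m => F7a m || (F7b m || (conn TE7 7 (2 ^ 126 - 1) 2 m || (conn TE7 7 (2 ^ 126 - 1) 4 m ||
    (conn TE7 7 (2 ^ 126 - 1) 6 m || decide (pop (phi TE7 7 (2 ^ 126 - 1) m) ≤ 14)))))) 255 = true := by decide +kernel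

/-- **The centralisers of the elements of prime order.** -/
theorem tab_prime {M : CoxeterMatrix (Fin 7)} (hp : IsType chevE7 7 M) (hk : Kac chevE7 7 n c c0) (hn : n.Prime)
    {S : Set (Fin 7 → ℤ)} (hS : IsS hp n c S) :
    (∃ t, 2 ≤ t ∧ (∃ a ∈ S, t ≤ nb M.toCoxeterSystem hp.isCartan S a) ∧
      ∀ a ∈ S, ∀ b ∈ S, t ≤ nb M.toCoxeterSystem hp.isCartan S a → t ≤ nb M.toCoxeterSystem hp.isCartan S b →
        Relation.ReflTransGen (fun x y => y ∈ S ∧ cpr M.toCoxeterSystem hp.isCartan y x ≠ 0) a b) ∨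
      S.ncard ≤ 14 := by
  have h1 := of_allm chk_prime (mc 7 c c0) (mc_ne hk)
  rw [prime_a hk hn, prime_b hk hn, Bool.false_or, Bool.false_or, Bool.or_eq_true, Bool.or_eq_true, Bool.or_eq_true,
    decide_eq_true_eq] at h1
  rcases h1 with h1 | h1 | h1 | h1
  · left
    exact ⟨2, le_rfl, tab_conn hp hk ok_E7 hS h1⟩
  · left
    exact ⟨4, by norm_num, tab_conn hp hk ok_E7 hS h1⟩
  · left
    exact ⟨6, by norm_num, tab_conn hp hk ok_E7 hS h1⟩
  · right
    rw [tab_card hp hk ok_E7 hS]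
    exact h1

end Cfsg.Agent.H378.RC
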