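import Cfsg.Agent.H378.RC.Tab7
import Cfsg.Agent.H255.RG.FinT

/-!
# The centralisers of the elements of odd prime order in `E7` (S3509, helper378)

`tab_two` : the set of the `a ∈ S` with at least `6` neighbours is nonempty and connected, or the degree is at least `5`,
`2 ^ (|S| + rk) 3 ^ (7 - rk) ≤ 2 ^ 26 * 3`, and the nodes of the zero coordinates are a matching, or a path of three nodes and a
matching.
-/

set_option autoImplicit false
set_option maxRecDepth 100000

namespace Cfsg.Agent.H378.RC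

open CoxeterSystem Cfsg Cfsg.Lie Cfsg.Lie.ChevalleyDatum
open Cfsg.Agent.ChevalleyStructure Cfsg.Agent.ChevalleyStructure.Elts Cfsg.Agent.ChevalleyStructure.CoxeterGeom
  Cfsg.Agent.ChevalleyStructure.CoxeterGeomTypes Cfsg.Agent.ChevalleyStructure.NPerm
open Cfsg.Agent.Tits.Roots Cfsg.Agent.Tits.Core Cfsg.Agent.Nodes Cfsg.Agent.Nodes.Reps Cfsg.Agent.Nodes.BNOf
  Cfsg.Agent.Nodes.RGDChev Cfsg.Agent.Nodes.Bruhat
open Cfsg.Agent.H129.TorusChar Cfsg.Agent.H129.WData
open Cfsg.Agent.Nodes.Coroot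
open Cfsg.Agent.H931.KC Cfsg.Agent.H76.RG Cfsg.Agent.H164.RG Cfsg.Agent.H255.RG

/-- the index of a node -/
def ix : Option (Fin 7) → ℕ
  | none => 7
  | some i => i

/-- the links, as masks -/
def adjm : List ℕ := [132, 8, 9, 22, 40, 80, 32, 1]

/-- linked nodes -/
def lkb (i j : ℕ) : Bool := (adjm.getD i 0).testBit j

theorem lk_iff : ∀ i j : Option (Fin 7), Lk chevE7 7 BE7 i j ↔ lkb (ix i) (ix j) = true := by decide +kernel

/-- the number of the nodes in `m` linked to the node `i` is at most one -/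
def oneb (m i : ℕ) : Bool :=
  (List.range 8).all fun j => !(m.testBit j && lkb i j) || (List.range 8).all fun j' => !(m.testBit j' && lkb i j') || j == j'

/-- `Deg` for masks -/
def degb (m : ℕ) : Bool := (List.range 8).all fun i => !(m.testBit i) || oneb m i

/-- `Deg3` for masks -/
def deg3b (m a1 a2 a3 : ℕ) : Bool :=
  (m.testBit a1 && m.testBit a2 && m.testBit a3) && (a1 != a2 && a2 != a3 && a1 != a3) &&
    (lkb a1 a2 && lkb a2 a3 && !lkb a1 a3) &&
    (List.range 8).all fun j => !(m.testBit j) || (j == a1 || j == a2 || j == a3) ||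
      (!lkb j a1 && !lkb j a2 && !lkb j a3 && oneb m j)

/-- the number of the nodes in `m` -/
def rkb (m : ℕ) : ℕ := (List.range 8).countP fun j => m.testBit j

/-- the sum of the marks of the other nodes is at least `4` -/
def msb (m : ℕ) : Bool :=
  decide (4 ≤ (if m.testBit 0 then 0 else 2) + (if m.testBit 1 then 0 else 2) + (if m.testBit 2 then 0 else 3) +
    (if m.testBit 3 then 0 else 4) + (if m.testBit 4 then 0 else 3) + (if m.testBit 5 then 0 else 2) +
    (if m.testBit 6 then 0 else 1) + (if m.testBit 7 then 0 else 1))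

/-- masks which do not occur for odd degree -/
def Fodd (m : ℕ) : Bool := m.testBit 2 && m.testBit 4 && m.testBit 6 && m.testBit 7

theorem chk_two : allm (fun m => Fodd m || (F7b m || (conn TE7 7 (2 ^ 126 - 1) 6 m ||
    (decide (2 ^ (pop (phi TE7 7 (2 ^ 126 - 1) m) + rkb m) * 3 ^ (7 - rkb m) ≤ 2 ^ 26 * 3) && (msb m &&
      (degb m || (List.range 8).any fun a1 => (List.range 8).any fun a2 => (List.range 8).any fun a3 =>
        deg3b m a1 a2 a3)))))) 255 = true := by decide +kernel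

variable {n : ℕ} {c : Fin 7 → ℕ} {c0 : ℕ}

theorem ix_lt (j : Option (Fin 7)) : ix j < 8 := by
  rcases j with _ | i
  · exact by decide
  · have := i.2
    show (i : ℕ) < 8
    omega

theorem ix_inj {i j : Option (Fin 7)} (h : ix i = ix j) : i = j := by
  revert i j
  decide

theorem tbi (j : Option (Fin 7)) : (mc 7 c c0).testBit (ix j) = true ↔ ct c c0 j = 0 := by
  rcases j with _ | i
  · exact mc_eq
  · exact mc_lt i

theorem rk_eq : Fintype.card {j : Option (Fin 7) // ct c c0 j = 0} = rkb (mc 7 c c0) := by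
  classical
  rw [Fintype.card_subtype]
  have h1 : rkb (mc 7 c c0) = ((Finset.range 8).filter fun j => (mc 7 c c0).testBit j = true).card := by
    rw [rkb, List.countP_eq_length_filter, ← List.toFinset_card_of_nodup (List.nodup_range.filter _)]
    congr 1
    ext j
    simp
  rw [h1]
  refine Finset.card_bij (fun j _ => ix j) ?_ ?_ ?_
  · intro j hj
    rw [Finset.mem_filter] at hj ⊢
    exact ⟨Finset.mem_range.2 (ix_lt j), (tbi j).2 hj.2⟩
  · intro i _ j _ h
    exact ix_inj h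
  · intro b hb
    rw [Finset.mem_filter, Finset.mem_range] at hb
    have h2 : ∃ j : Option (Fin 7), ix j = b := by
      by_cases h7 : b = 7
      · exact ⟨none, h7.symm⟩
      · exact ⟨some ⟨b, by omega⟩, rfl⟩
    obtain ⟨j, rfl⟩ := h2
    exact ⟨j, Finset.mem_filter.2 ⟨Finset.mem_univ _, (tbi j).1 hb.2⟩, rfl⟩

theorem all8 {p : ℕ → Bool} (h : (List.range 8).all p = true) (j : Option (Fin 7)) : p (ix j) = true := by
  rw [List.all_eq_true] at h
  exact h _ (List.mem_range.2 (ix_lt j))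

theorem one_of {m : ℕ} {p : Option (Fin 7) → Prop} (hp : ∀ j, m.testBit (ix j) = true ↔ p j) {i : Option (Fin 7)}
    (h : oneb m (ix i) = true) : One chevE7 7 BE7 p i := by
  intro j hj j' hj' h1 h2
  have h3 := all8 h j
  rw [(hp j).2 hj, (lk_iff i j).1 h1] at h3
  simp only [Bool.and_true, Bool.not_true, Bool.false_or] at h3
  have h4 := all8 h3 j'
  rw [(hp j').2 hj', (lk_iff i j').1 h2] at h4
  simp only [Bool.and_true, Bool.not_true, Bool.false_or, beq_iff_eq] at h4
  exact ix_inj h4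

theorem deg_of_b (h : degb (mc 7 c c0) = true) (i : Option (Fin 7)) (hi : ct c c0 i = 0) :
    One chevE7 7 BE7 (fun j => ct c c0 j = 0) i := by
  have h1 := all8 h i
  rw [(tbi i).2 hi] at h1
  simp only [Bool.not_true, Bool.false_or] at h1
  exact one_of tbi h1

theorem exists_ix {a : ℕ} (h : a ∈ List.range 8) : ∃ j : Option (Fin 7), ix j = a := by
  rw [List.mem_range] at h
  by_cases h7 : a = 7
  · exact ⟨none, h7.symm⟩
  · exact ⟨some ⟨a, by omega⟩, rfl⟩

theorem deg3_of_b {a1 a2 a3 : Option (Fin 7)} (h : deg3b (mc 7 c c0) (ix a1) (ix a2) (ix a3) = true) :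
    Deg3 chevE7 7 BE7 (fun j => ct c c0 j = 0) a1 a2 a3 := by
  unfold deg3b at h
  rw [Bool.and_eq_true, Bool.and_eq_true, Bool.and_eq_true] at h
  obtain ⟨⟨⟨h1, h2⟩, h3⟩, h4⟩ := h
  simp only [Bool.and_eq_true, bne_iff_ne, ne_eq, Bool.not_eq_true'] at h1 h2 h3
  have key : ∀ j, ct c c0 j = 0 → ¬ In3 a1 a2 a3 j →
      (lkb (ix j) (ix a1) = false ∧ lkb (ix j) (ix a2) = false ∧ lkb (ix j) (ix a3) = false) ∧ oneb (mc 7 c c0) (ix j) = true := by
    intro j hj hj3
    have h5 := all8 h4 j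
    rw [(tbi j).2 hj] at h5
    simp only [Bool.not_true, Bool.false_or, Bool.or_eq_true, beq_iff_eq, Bool.and_eq_true, Bool.not_eq_true'] at h5
    rcases h5 with (h5 | h5) | h5
    · rcases h5 with h5 | h5
      · exact absurd (Or.inl (ix_inj h5)) hj3
      · exact absurd (Or.inr (Or.inl (ix_inj h5))) hj3
    · exact absurd (Or.inr (Or.inr (ix_inj h5))) hj3
    · exact ⟨⟨h5.1.1.1, h5.1.1.2, h5.1.2⟩, h5.2⟩
  refine ⟨⟨(tbi _).1 h1.1.1, (tbi _).1 h1.1.2, (tbi _).1 h1.2⟩,
    ⟨fun e => h2.1.1 (by rw [e]), fun e => h2.1.2 (by rw [e]), fun e => h2.2 (by rw [e])⟩,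
    ⟨(lk_iff _ _).2 h3.1.1, (lk_iff _ _).2 h3.1.2, fun e => ?_⟩, fun j hj hj3 => ?_, fun j hj hj3 => one_of tbi (key j hj hj3).2⟩
  · rw [lk_iff, h3.2] at e
    exact Bool.false_ne_true e
  · obtain ⟨⟨e1, e2, e3⟩, -⟩ := key j hj hj3
    refine ⟨fun e => ?_, fun e => ?_, fun e => ?_⟩
    · rw [lk_iff, e1] at e
      exact Bool.false_ne_true e
    · rw [lk_iff, e2] at e
      exact Bool.false_ne_true e
    · rw [lk_iff, e3] at e
      exact Bool.false_ne_true e

theorem odd_mask (hk : Kac chevE7 7 n c c0) (hn : n.Prime) (h2 : n ≠ 2) : Fodd (mc 7 c c0) = false := by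
  have h := kac_sum hk
  rw [Bool.eq_false_iff]
  intro hF
  have e2 := tb (c := c) (c0 := c0) 2
  have e4 := tb (c := c) (c0 := c0) 4
  have e6 := tb (c := c) (c0 := c0) 6
  have e7 := tb7 (c := c) (c0 := c0)
  simp only [Fodd, Bool.and_eq_true] at hF
  simp only [Fin.isValue, Fin.coe_ofNat_eq_mod, Nat.reduceMod] at e2 e4 e6 e7
  simp only [e2, e4, e6, e7, decide_eq_true_eq] at hF
  obtain ⟨⟨⟨h3, h4⟩, h6⟩, h7⟩ := hF
  have hd : n = 2 * (c 0 + c 1 + 2 * c 3 + c 5) := by omega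
  exact h2 ((Nat.prime_dvd_prime_iff_eq Nat.prime_two hn).1 ⟨_, hd⟩).symm

theorem five_le (hk : Kac chevE7 7 n c c0) (h : msb (mc 7 c c0) = true) : 4 ≤ n := by
  have h1 := kac_sum hk
  have e0 := tb (c := c) (c0 := c0) 0
  have e1 := tb (c := c) (c0 := c0) 1
  have e2 := tb (c := c) (c0 := c0) 2
  have e3 := tb (c := c) (c0 := c0) 3
  have e4 := tb (c := c) (c0 := c0) 4
  have e5 := tb (c := c) (c0 := c0) 5
  have e6 := tb (c := c) (c0 := c0) 6
  have e7 := tb7 (c := c) (c0 := c0)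
  simp only [Fin.isValue, Fin.coe_ofNat_eq_mod, Nat.reduceMod] at e0 e1 e2 e3 e4 e5 e6 e7
  unfold msb at h
  rw [e0, e1, e2, e3, e4, e5, e6, e7, decide_eq_true_eq] at h
  simp only [decide_eq_true_eq] at h
  have key : ∀ (k x : ℕ), (if x = 0 then 0 else k) ≤ k * x := by
    intro k x
    split_ifs with hx
    · exact Nat.zero_le _
    · exact Nat.le_mul_of_pos_right _ (Nat.pos_of_ne_zero hx)
  have k0 := key 2 (c 0)
  have k1 := key 2 (c 1)
  have k2 := key 3 (c 2)
  have k3 := key 4 (c 3)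
  have k4 := key 3 (c 4)
  have k5 := key 2 (c 5)
  have k6 := key 1 (c 6)
  have k7 := key 1 c0
  omega

/-- **The table for odd prime degree.** -/
theorem tab_two {M : CoxeterMatrix (Fin 7)} (hp : IsType chevE7 7 M) (hk : Kac chevE7 7 n c c0) (hn : n.Prime)
    (h2 : n ≠ 2) {S : Set (Fin 7 → ℤ)} (hS : IsS hp n c S) :
    ((∃ a ∈ S, 6 ≤ nb M.toCoxeterSystem hp.isCartan S a) ∧
      ∀ a ∈ S, ∀ b ∈ S, 6 ≤ nb M.toCoxeterSystem hp.isCartan S a → 6 ≤ nb M.toCoxeterSystem hp.isCartan S b →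
        Relation.ReflTransGen (fun x y => y ∈ S ∧ cpr M.toCoxeterSystem hp.isCartan y x ≠ 0) a b) ∨
    (n ≠ 3 ∧ 2 ^ (S.ncard + Fintype.card {j : Option (Fin 7) // ct c c0 j = 0}) *
        3 ^ (7 - Fintype.card {j : Option (Fin 7) // ct c c0 j = 0}) ≤ 2 ^ 26 * 3 ∧
      ((∀ i, ct c c0 i = 0 → One chevE7 7 BE7 (fun j => ct c c0 j = 0) i) ∨
        ∃ a1 a2 a3, Deg3 chevE7 7 BE7 (fun j => ct c c0 j = 0) a1 a2 a3)) := by
  have h1 := of_allm chk_two (mc 7 c c0) (mc_ne hk)
  rw [odd_mask hk hn h2, prime_b hk hn, Bool.false_or, Bool.false_or, Bool.or_eq_true, Bool.and_eq_true, Bool.and_eq_true,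
    Bool.or_eq_true, decide_eq_true_eq] at h1
  rcases h1 with h1 | ⟨h1, h3, h4⟩
  · left
    exact tab_conn hp hk ok_E7 hS h1
  · right
    refine ⟨?_, ?_, ?_⟩
    · have := five_le hk h3
      omega
    · rw [tab_card hp hk ok_E7 hS, rk_eq]
      exact h1
    · rcases h4 with h4 | h4
      · left
        exact deg_of_b h4
      · right
        rw [List.any_eq_true] at h4
        obtain ⟨a1, m1, h4⟩ := h4
        rw [List.any_eq_true] at h4
        obtain ⟨a2, m2, h4⟩ := h4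
        rw [List.any_eq_true] at h4
        obtain ⟨a3, m3, h4⟩ := h4
        obtain ⟨i1, rfl⟩ := exists_ix m1
        obtain ⟨i2, rfl⟩ := exists_ix m2
        obtain ⟨i3, rfl⟩ := exists_ix m3
        exact ⟨i1, i2, i3, deg3_of_b h4⟩

end Cfsg.Agent.H378.RC
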